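import Cfsg.Agent.H26.RIM.M23
import Cfsg.Agent.H320.SD.Codim

/-!
# The codimension of a central involution of `2^11 : M_24` (helper26, for S4908)

`Ext D` : an element `g` extending the `M_23` of the data `D : Dat H` to `M_24` (`g a_i g⁻¹ = a_0 a_{g i}`).
`Ext.codim` : `r ^ 352 ≤ |A : C_A(a_0)|` for `r` odd, if `a_0` acts non-trivially.
-/

set_option autoImplicit false
set_option linter.unusedSectionVars false
set_option exponentiation.threshold 5000

namespace Cfsg.Agent.H26.S8.FiE2

open Cfsg.Agent.H26.RIM.Ws Cfsg.Agent.H26.RIM.M23 Cfsg.Agent.H320.SD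

universe u v

/-! ### the index of an involution with many weights -/

section index

variable {H : Type v} {V : Type u} {ι : Type} [Group H] [AddCommGroup V] [DistribMulAction H V]
variable {p : ℕ} [hp : Fact p.Prime]

theorem smul_zero_or [Module (ZMod p) V] (c : ZMod p) (x : V) (h : c • x = 0) : c = 0 ∨ x = 0 := smul_eq_zero.1 h

theorem pow_le_index (hp2 : p ≠ 2) (hV : ∀ v : V, p • v = 0) [Finite V] {a : ι → H} {e : H} {K : Type} (F : Finset K)
    (w : K → ι → Bool) (hw : Set.InjOn w F) (z : K → V) (hz : ∀ k ∈ F, Wt a (w k) (z k)) (hz0 : ∀ k ∈ F, z k ≠ 0)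
    (he : ∀ k ∈ F, e • z k = - z k) : p ^ F.card ≤ (fx V e).index := by
  classical
  let : Module (ZMod p) V := AddCommGroup.zmodModule hV
  let Φ : (F → ZMod p) → V := fun μ => ∑ k ∈ F.attach, μ k • z k.1
  have hadd : ∀ μ ν, Φ (μ - ν) = Φ μ - Φ ν := by
    intro μ ν
    change ∑ k ∈ F.attach, (μ k - ν k) • z k.1 = _
    simp only [sub_smul, Finset.sum_sub_distrib]
    rfl
  have hneg : ∀ μ, e • Φ μ = - Φ μ := by
    intro μ
    change e • ∑ k ∈ F.attach, μ k • z k.1 = - ∑ k ∈ F.attach, μ k • z k.1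
    rw [Finset.smul_sum, ← Finset.sum_neg_distrib]
    refine Finset.sum_congr rfl fun k _ => ?_
    rw [smul_zmod, he k.1 k.2, smul_neg]
  have hsm : ∀ (c : ZMod p) (x : V), c • x = 0 → c = 0 ∨ x = 0 := fun c x h => smul_zero_or c x h
  have key : ∀ μ, e • Φ μ = Φ μ → μ = 0 := by
    intro μ h
    have h1 : Φ μ = 0 := by
      refine half (p := p) hp2 ?_
      nth_rewrite 2 [← h]
      rw [hneg, add_neg_cancel]
    have h2 := sep hp2 _ F.attach le_rfl (fun k => w k.1) (fun x _ y _ hxy => Subtype.ext (hw x.2 y.2 hxy))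
      (fun k => μ k • z k.1) (fun k _ => (hz k.1 k.2).smul _) h1
    funext k
    have h4 : μ k • z k.1 = 0 := h2 k (Finset.mem_attach _ _)
    rcases hsm _ _ h4 with h3 | h3
    · exact h3
    · exact absurd h3 (hz0 k.1 k.2)
  have hinj : Function.Injective (fun x : (F → ZMod p) × fx V e => Φ x.1 + x.2.1) := by
    rintro ⟨μ, b⟩ ⟨ν, d⟩ h
    have h1 : Φ μ + b.1 = Φ ν + d.1 := h
    have h2 : Φ (μ - ν) = d.1 - b.1 := by
      rw [hadd, sub_eq_sub_iff_add_eq_add, h1, add_comm]
    have h3 := key (μ - ν) (by rw [h2, smul_sub, mem_fx.1 d.2, mem_fx.1 b.2])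
    have h4 : μ = ν := sub_eq_zero.1 h3
    subst h4
    exact Prod.ext rfl (Subtype.ext (add_left_cancel h1))
  have h1 := Nat.card_le_card_of_injective _ hinj
  rw [Nat.card_prod, Nat.card_fun, Nat.card_zmod, Nat.card_eq_fintype_card (α := F), Fintype.card_coe,
    ← AddSubgroup.card_mul_index (fx V e), mul_comm] at h1
  exact Nat.le_of_mul_le_mul_left h1 Nat.card_pos

end index

/-! ### the states -/

/-- the word in the other coordinates -/
def gm (m : ℕ) : ℕ := m ^^^ (bt m 0 * 16777215)

def lyI : List ℕ := [22, 0, 1, 2, 3, 4, 5, 6, 7, 8, 9]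
def lzI : List ℕ := [0, 4, 18, 2, 12, 22, 9, 15, 8, 1, 7]
def lg : List ℕ := [23, 22, 11, 15, 17, 9, 19, 13, 20, 5, 16]

def yI (k : ℕ) : ℕ := fc (E k) fun m => pk m lyI
def zI (k : ℕ) : ℕ := fc (E k) fun m => pk m lzI
def gS (k : ℕ) : ℕ := fc (E k) fun m => fc (gm m) fun m => pk m lg

theorem yI_eq (k : ℕ) : yI k = pk (E k) lyI := fc_eq _ _
theorem zI_eq (k : ℕ) : zI k = pk (E k) lzI := fc_eq _ _
theorem gS_eq (k : ℕ) : gS k = pk (gm (E k)) lg := by
  unfold gS
  rw [fc_eq, fc_eq]

theorem chk_y : (List.range 2048).all (fun k => fc (yS k) fun l => Nat.beq (yI l) k) = true := by decide +kernel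
theorem chk_z : (List.range 2048).all (fun k => fc (zS k) fun l => Nat.beq (zI l) k) = true := by decide +kernel
theorem chk_g : (List.range 2048).all (fun k => fc (gS k) fun l => Nat.beq (gS l) k) = true := by decide +kernel
theorem chk_E : (List.range 2048).all (fun k => Nat.beq (bt (E k) 23) 0) = true := by decide +kernel

theorem yI_yS {k : ℕ} (hk : k < 2048) : yI (yS k) = k := by
  have h := List.all_eq_true.1 chk_y k (List.mem_range.2 hk)
  rw [fc_eq] at h
  exact Nat.eq_of_beq_eq_true h

theorem zI_zS {k : ℕ} (hk : k < 2048) : zI (zS k) = k := by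
  have h := List.all_eq_true.1 chk_z k (List.mem_range.2 hk)
  rw [fc_eq] at h
  exact Nat.eq_of_beq_eq_true h

theorem gS_gS {k : ℕ} (hk : k < 2048) : gS (gS k) = k := by
  have h := List.all_eq_true.1 chk_g k (List.mem_range.2 hk)
  rw [fc_eq] at h
  exact Nat.eq_of_beq_eq_true h

theorem E_23 {k : ℕ} (hk : k < 2048) : (E k).testBit 23 = false := by
  have h := Nat.eq_of_beq_eq_true (List.all_eq_true.1 chk_E k (List.mem_range.2 hk))
  rw [testBit_eq, h]
  rfl

theorem full_bit : ∀ j : Fin 24, (16777215 : ℕ).testBit j = true := by decide +kernel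

theorem testBit_gm (m : ℕ) {j : ℕ} (hj : j < 24) : (gm m).testBit j = xor (m.testBit j) (m.testBit 0) := by
  unfold gm
  rw [Nat.testBit_xor, bt_eq]
  have h1 := full_bit ⟨j, hj⟩
  cases m.testBit 0
  · simp
  · simp only [if_true, one_mul]
    rw [show (16777215 : ℕ).testBit j = true from h1]

/-! ### the orbits -/

def NX : ℕ := 587606694298514637174700854137180234237197939456058828863216451873205589665314659935556920244741547196794058600147826554869193242176344299051250387147969239551153693056393272028692574985646445679131314944616062822473760210284476868576938546341918910752050543042985896715627760434445498180668869397541453638736231023560889015778204567223796892320154387918128190604410603734491816309420135153141098494192815438385454129154374980584648428046028921532236671965595918304697619129710597500397146405965148953221895737358140864860221174698156010753154224383283358755334473001373512559987828681038107757780779089780801636795480056519655892022112122954036255844919907534638062095996773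674914874033246809093947957924643101124092583802621503746317085213354741852214895770275274943455759598691257890394530750725089094145049053833217169432088949960401045436442053153061316160358997158337330726410855496373345306346106097423747379694827637534900429417562186183090847920731365478572996151239572789118269161916372681579476250048464450283769243381280706445496694285524556882333703890579779462139677946608456421859077092866075384788354496457497828413312887808553230734722857777533166937722836463568571745656349315834673115732785299588844329752474553647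

/-- the move -/
def mv (j k : ℕ) : ℕ := cond (Nat.beq j 0) (yS k) (cond (Nat.beq j 1) (zS k) (gS k))

/-- the base point of the orbit -/
def bs : ℕ → ℕ → ℕ
  | 0, k => cond (Nat.beq k 1) 1 (cond (Nat.beq k 5) 2 0)
  | n + 1, k => cond (Nat.beq k 1) 1 (cond (Nat.beq k 5) 2 (fc (mv (NX / 4 ^ k % 4) k) fun l => bs n l))

theorem chk_bs : (List.range 2048).all (fun k => Nat.beq k 0 || !(Nat.beq (bs 10 k) 0)) = true := by decide +kernel

/-- odd at `a_0` and in the orbit `c` -/
def Q (c k : ℕ) : Bool := Nat.beq (k % 2) 1 && Nat.beq (bs 10 k) c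

/-- the number of these states -/
def cnt (c : ℕ) : ℕ := (List.range 2048).countP (Q c)

theorem chk_one : Nat.ble 352 (cnt 1) = true := by decide +kernel

theorem chk_two : Nat.ble 352 (cnt 2) = true := by decide +kernel

theorem card_filter_range (P : ℕ → Bool) : ∀ n : ℕ, ((Finset.range n).filter fun k => P k = true).card = (List.range n).countP P
  | 0 => rfl
  | n + 1 => by
    rw [Finset.range_add_one, Finset.filter_insert, List.range_succ, List.countP_append, ← card_filter_range P n]
    by_cases h : P n = true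
    · rw [if_pos h, Finset.card_insert_of_notMem (by simp)]
      simp [h]
    · rw [if_neg h]
      simp [h]

theorem bs_lt : ∀ n k : ℕ, bs n k = 0 ∨ bs n k = 1 ∨ bs n k = 2
  | 0, k => by
    unfold bs
    cases Nat.beq k 1 <;> cases Nat.beq k 5 <;> simp
  | n + 1, k => by
    unfold bs
    rw [fc_eq]
    cases Nat.beq k 1 <;> cases Nat.beq k 5 <;> simp [bs_lt n]

/-- a set closed under the moves and their inverses -/
structure Clo (C : Set ℕ) : Prop where
  lt : ∀ k ∈ C, k < 2048
  mv : ∀ j, ∀ k ∈ C, mv j k ∈ C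
  vm : ∀ j k, k < 2048 → FiE2.mv j k ∈ C → k ∈ C

theorem mv_lt (j k : ℕ) : mv j k < 2048 := by
  unfold mv
  cases Nat.beq j 0
  · cases Nat.beq j 1
    · exact gS_eq k ▸ lt_of_pk _ rfl
    · exact zS_eq k ▸ lt_of_pk _ rfl
  · exact yS_lt k

theorem Clo.fwd {C : Set ℕ} (h : Clo C) : ∀ (n k : ℕ), k ∈ C → (bs n k = 1 → 1 ∈ C) ∧ (bs n k = 2 → 5 ∈ C)
  | 0, k, hk => by
    unfold bs
    rcases h1 : Nat.beq k 1 with _ | _
    · rcases h2 : Nat.beq k 5 with _ | _
      · simp
      · simp only [cond_true, cond_false]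
        have := Nat.eq_of_beq_eq_true h2
        subst this
        exact ⟨by omega, fun _ => hk⟩
    · simp only [cond_true]
      have := Nat.eq_of_beq_eq_true h1
      subst this
      exact ⟨fun _ => hk, by omega⟩
  | n + 1, k, hk => by
    unfold bs
    rw [fc_eq]
    rcases h1 : Nat.beq k 1 with _ | _
    · rcases h2 : Nat.beq k 5 with _ | _
      · simp only [cond_false]
        exact h.fwd n _ (h.mv _ k hk)
      · simp only [cond_true, cond_false]
        have := Nat.eq_of_beq_eq_true h2
        subst this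
        exact ⟨by omega, fun _ => hk⟩
    · simp only [cond_true]
      have := Nat.eq_of_beq_eq_true h1
      subst this
      exact ⟨fun _ => hk, by omega⟩

theorem Clo.bwd {C : Set ℕ} (h : Clo C) : ∀ (n k : ℕ), k < 2048 → (bs n k = 1 → 1 ∈ C → k ∈ C) ∧ (bs n k = 2 → 5 ∈ C → k ∈ C)
  | 0, k, hk => by
    unfold bs
    rcases h1 : Nat.beq k 1 with _ | _
    · rcases h2 : Nat.beq k 5 with _ | _
      · simp
      · simp only [cond_true, cond_false]
        have := Nat.eq_of_beq_eq_true h2
        subst this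
        exact ⟨by omega, fun _ h => h⟩
    · simp only [cond_true]
      have := Nat.eq_of_beq_eq_true h1
      subst this
      exact ⟨fun _ h => h, by omega⟩
  | n + 1, k, hk => by
    unfold bs
    rw [fc_eq]
    rcases h1 : Nat.beq k 1 with _ | _
    · rcases h2 : Nat.beq k 5 with _ | _
      · simp only [cond_false]
        obtain ⟨h3, h4⟩ := h.bwd n (FiE2.mv (NX / 4 ^ k % 4) k) (mv_lt _ _)
        exact ⟨fun h5 h6 => h.vm _ k hk (h3 h5 h6), fun h5 h6 => h.vm _ k hk (h4 h5 h6)⟩
      · simp only [cond_true, cond_false]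
        have := Nat.eq_of_beq_eq_true h2
        subst this
        exact ⟨by omega, fun _ h => h⟩
    · simp only [cond_true]
      have := Nat.eq_of_beq_eq_true h1
      subst this
      exact ⟨fun _ h => h, by omega⟩

/-- **352 states odd at `a_0`.** -/
theorem Clo.exists_fin {C : Set ℕ} (h : Clo C) {k : ℕ} (hk : k ∈ C) (hk0 : k ≠ 0) :
    ∃ F : Finset ℕ, 352 ≤ F.card ∧ (∀ j ∈ F, j ∈ C) ∧ ∀ j ∈ F, j.testBit 0 = true := by
  have key : ∀ c : ℕ, (∀ j, j < 2048 → bs 10 j = c → j ∈ C) → Nat.ble 352 (cnt c) = true →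
      ∃ F : Finset ℕ, 352 ≤ F.card ∧ (∀ j ∈ F, j ∈ C) ∧ ∀ j ∈ F, j.testBit 0 = true := by
    intro c hc hle
    refine ⟨(Finset.range 2048).filter fun k => Q c k = true, ?_, fun j hj => ?_, fun j hj => ?_⟩
    · rw [card_filter_range]
      exact Nat.le_of_ble_eq_true hle
    · obtain ⟨h1, h2⟩ := Finset.mem_filter.1 hj
      unfold Q at h2
      rw [Bool.and_eq_true] at h2
      exact hc j (Finset.mem_range.1 h1) (Nat.eq_of_beq_eq_true h2.2)
    · obtain ⟨h1, h2⟩ := Finset.mem_filter.1 hj
      unfold Q at h2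
      rw [Bool.and_eq_true] at h2
      have h3 := Nat.eq_of_beq_eq_true h2.1
      rw [Nat.testBit_zero, h3]
      rfl
  have h1 := List.all_eq_true.1 chk_bs k (List.mem_range.2 (h.lt k hk))
  rw [Bool.or_eq_true] at h1
  rcases h1 with h1 | h1
  · exact absurd (Nat.eq_of_beq_eq_true h1) hk0
  · rcases bs_lt 10 k with h2 | h2 | h2
    · rw [h2] at h1
      exact absurd h1 (by decide)
    · have h3 := (h.fwd 10 k hk).1 h2
      exact key 1 (fun j hj hj1 => (h.bwd 10 j hj).1 hj1 h3) chk_one
    · have h3 := (h.fwd 10 k hk).2 h2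
      exact key 2 (fun j hj hj1 => (h.bwd 10 j hj).2 hj1 h3) chk_two

/-! ### the extra element -/

def fg : Fin 23 → Fin 23 := ![0, 22, 11, 15, 17, 9, 19, 13, 20, 5, 16, 2, 21, 7, 18, 3, 10, 4, 14, 6, 8, 12, 1]

theorem fg_fg : ∀ i, fg (fg i) = i := by decide +kernel

/-- an element extending `M_23` to `M_24` -/
structure Ext {H : Type v} [Group H] (D : Dat H) where
  g : H
  h0 : g * D.a 0 * g⁻¹ = D.a 0
  hi : ∀ i, i ≠ 0 → g * D.a i * g⁻¹ = D.a 0 * D.a (fg i)

section

variable {H : Type v} {V : Type u} [Group H] [AddCommGroup V] [DistribMulAction H V] {D : Dat H} (e : Ext D)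
variable {p : ℕ} [hp : Fact p.Prime] (hp2 : p ≠ 2) (hV : ∀ v : V, p • v = 0)

/-- the new weight -/
def nwt (s : Fin 23 → Bool) (i : Fin 23) : Bool := if i = 0 then s 0 else xor (s 0) (s (fg i))

include e in
theorem Ext.occ {s : Fin 23 → Bool} (h : Occ V D.a s) : Occ V D.a (nwt s) := by
  obtain ⟨v, hv, hw⟩ := h
  refine ⟨e.g⁻¹ • v, fun h => hv ?_, fun i => ?_⟩
  · have h1 := congrArg (fun w => e.g • w) h
    simpa using h1
  · unfold nwt
    by_cases hi : i = 0
    · subst hi
      rw [if_pos rfl]
      have h1 : D.a 0 * e.g⁻¹ = e.g⁻¹ * D.a 0 := by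
        conv_lhs => rw [← e.h0]
        conv_rhs => rw [← e.h0]
        have h2 := e.h0
        rw [mul_inv_eq_iff_eq_mul] at h2
        calc e.g * D.a 0 * e.g⁻¹ * e.g⁻¹ = D.a 0 * e.g⁻¹ := by rw [e.h0]
          _ = e.g⁻¹ * (e.g * D.a 0) * e.g⁻¹ := by group
          _ = e.g⁻¹ * (e.g * D.a 0 * e.g⁻¹) := by group
      rw [smul_smul, h1, mul_smul, hw 0]
      split_ifs
      · rw [smul_neg]
      · rfl
    · rw [if_neg hi]
      have h1 : D.a i * e.g⁻¹ = e.g⁻¹ * (D.a 0 * D.a (fg i)) := by
        rw [← e.hi i hi]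
        group
      rw [smul_smul, h1, mul_smul, mul_smul, hw (fg i)]
      cases s (fg i)
      · rw [if_neg (by decide), hw 0]
        cases s 0 <;> simp
      · rw [if_pos rfl, smul_neg, hw 0]
        cases s 0 <;> simp

include e hp2 hV in
theorem Ext.stepg {k : ℕ} (hk : k ∈ D.C V) : gS k ∈ D.C V := by
  have h1 := e.occ hk.2
  have h2 : nwt (wt k) = wt (gS k) := by
    rw [gS_eq]
    have h23 := E_23 hk.1
    have hA : ∀ (i : Fin 23) (j : ℕ), i ≠ 0 → (fg i : ℕ) = j → nwt (wt k) i = (gm (E k)).testBit j := by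
      intro i j hi hj
      rw [testBit_gm _ (by omega)]
      unfold nwt
      rw [if_neg hi, ← hj, Bool.xor_comm]
      rfl
    have hB : nwt (wt k) 0 = (gm (E k)).testBit 23 := by
      rw [testBit_gm _ (by omega), h23, Bool.false_xor]
      rfl
    refine (D.rc hp2 hV h1).exists_wt (l := lg) rfl fun i hi => ?_
    match i, hi with
    | 0, _ => exact hB
    | 1, _ => exact hA 1 22 (by decide) (by decide)
    | 2, _ => exact hA 2 11 (by decide) (by decide)
    | 3, _ => exact hA 3 15 (by decide) (by decide)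
    | 4, _ => exact hA 4 17 (by decide) (by decide)
    | 5, _ => exact hA 5 9 (by decide) (by decide)
    | 6, _ => exact hA 6 19 (by decide) (by decide)
    | 7, _ => exact hA 7 13 (by decide) (by decide)
    | 8, _ => exact hA 8 20 (by decide) (by decide)
    | 9, _ => exact hA 9 5 (by decide) (by decide)
    | 10, _ => exact hA 10 16 (by decide) (by decide)
  refine ⟨?_, h2 ▸ h1⟩
  rw [gS_eq]
  exact lt_of_pk _ rfl

include hp2 hV in
theorem stepyI {k : ℕ} (hk : k ∈ D.C V) : yI k ∈ D.C V := by
  rw [yI_eq]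
  refine (D.step hp2 hV (g := D.y⁻¹) (π := py.symm) (fun i => ?_) rfl ?_ hk).1
  · have h := D.hy (py.symm i)
    rw [Equiv.apply_symm_apply] at h
    rw [← h]
    group
  · decide

include hp2 hV in
theorem stepzI {k : ℕ} (hk : k ∈ D.C V) : zI k ∈ D.C V := by
  rw [zI_eq]
  refine (D.step hp2 hV (g := D.z⁻¹) (π := pz.symm) (fun i => ?_) rfl ?_ hk).1
  · have h := D.hz (pz.symm i)
    rw [Equiv.apply_symm_apply] at h
    rw [← h]
    group
  · decide

include e hp2 hV in
theorem Ext.clo : Clo (D.C V) where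
  lt := fun k hk => hk.1
  mv := by
    intro j k hk
    unfold FiE2.mv
    cases Nat.beq j 0
    · cases Nat.beq j 1
      · exact e.stepg hp2 hV hk
      · exact (D.stepz hp2 hV hk).1
    · exact (D.stepy hp2 hV hk).1
  vm := by
    intro j k hk
    unfold FiE2.mv
    cases Nat.beq j 0
    · cases Nat.beq j 1
      · intro h
        rw [← gS_gS hk]
        exact e.stepg hp2 hV h
      · intro h
        rw [← zI_zS hk]
        exact stepzI hp2 hV h
    · intro h
      rw [← yI_yS hk]
      exact stepyI hp2 hV h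

include e hp2 hV in
/-- **The codimension.** -/
theorem Ext.codim [Finite V] (hne : ∃ v : V, D.a 0 • v ≠ v) : p ^ 352 ≤ (fx V (D.a 0)).index := by
  classical
  obtain ⟨s, hs, hs0⟩ := exists_occ (p := p) hp2 hV D.comm D.sq (i₀ := 0) hne
  obtain ⟨k, hk, hk0⟩ : ∃ k ∈ D.C V, k ≠ 0 := by
    let m : ℕ := Nat.ofBits fun i : Fin 11 => s ⟨i, by omega⟩
    have h1 : s = wt (pk m [0, 1, 2, 3, 4, 5, 6, 7, 8, 9, 10]) := by
      refine (D.rc hp2 hV hs).exists_wt rfl fun i hi => ?_
      have h2 : ∀ (i : ℕ) (hi : i < 11), ([0, 1, 2, 3, 4, 5, 6, 7, 8, 9, 10] : List ℕ)[i]'(by simpa using hi) = i := by decide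
      rw [h2 i hi, Nat.testBit_ofBits_lt _ _ hi]
    refine ⟨_, ⟨lt_of_pk m rfl, h1 ▸ hs⟩, fun h0 => ?_⟩
    rw [h0] at h1
    rw [h1] at hs0
    revert hs0
    decide
  obtain ⟨F, hF, hFC, hFo⟩ := (e.clo hp2 hV).exists_fin hk hk0
  choose! v hv0 hv using fun j (hj : j ∈ D.C V) => hj.2
  refine (Nat.pow_le_pow_right hp.out.pos hF).trans ?_
  refine pow_le_index hp2 hV (a := D.a) F wt (fun x hx y hy hxy => wt_inj (hFC x hx).1 (hFC y hy).1 hxy) v
    (fun j hj => hv j (hFC j hj)) (fun j hj => hv0 j (hFC j hj)) fun j hj => ?_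
  rw [hv j (hFC j hj) 0, if_pos]
  change (E j).testBit 0 = true
  rw [low (hFC j hj).1 (by norm_num)]
  exact hFo j hj

end

end Cfsg.Agent.H26.S8.FiE2
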