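import Cfsg.Agent.H26.RIM.Fi24Dat
import Cfsg.Agent.H26.S8.FiE2

/-!
# `Fi24'`: the codimension of the class `2A` in odd characteristic (helper26, for S4908)

`E2` : `r ^ 352 ≤ |A : C_A(l t_0)|`, `l t_0` a product of two commuting transpositions, `r` odd, no fixed points.
-/

set_option autoImplicit false
set_option maxRecDepth 100000
set_option linter.unusedSectionVars false
set_option linter.constructorNameAsVariable false

namespace Cfsg.Agent.H26.S8.FiE2b

open Cfsg Cfsg.Agent.Lib.PermNet Cfsg.Agent.Lib.PermNetPt Cfsg.Agent.Fischer.Fi24RepDef Cfsg.Agent.Fischer.Fi24Rep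
open Cfsg.Agent.KFacts.FiTF.Pts Cfsg.Agent.KFacts.FiTF.FixMask Cfsg.Agent.H843.Pat
open Cfsg.Spor (Fi24)
open Cfsg.Spor.Fi24 (Gen)
open Cfsg.Agent.H26.RIM.M23 Cfsg.Agent.H26.RIM.Fi24Dat Cfsg.Agent.H320.SD
open Cfsg.Agent.H26.S8.FiE2 (fg Ext)

universe u

def gw : List Gen := [.k, .a, .l, .k, .h, .i, .f, .e, .d, .h, .g, .f, .e, .d, .c, .b, .a, .l, .e, .d, .h, .i, .d, .h, .e, .f, .c, .d, .e, .b, .c, .d, .h, .g, .j, .f, .g, .e, .f, .d, .e, .c, .d, .h, .b, .c, .f, .e, .d, .h, .i, .h, .f, .g, .e, .f, .d, .e, .c, .d, .h, .j, .g, .f, .e, .d, .c, .b, .a, .j, .e, .d, .h, .i, .h, .d, .e, .c, .d, .h, .f, .e, .c, .d, .b, .c]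

theorem chk0 : chkPt (nw gw false) 0 (r 0) = true := by decide +kernel
theorem chk1 : chkPt (nw gw false) (r 0) 0 = true := by decide +kernel
theorem chki : ∀ i : Fin 23, i ≠ 0 → chkPt (nw gw false) (r i) (r (fg i)) = true := by decide +kernel

theorem rho_g0 : rho (word gw) 0 = r 0 := rho_of_chkPt chk0
theorem rho_g1 : rho (word gw) (r 0) = 0 := rho_of_chkPt chk1
theorem rho_gi {i : Fin 23} (hi : i ≠ 0) : rho (word gw) (r i) = r (fg i) := rho_of_chkPt (chki i hi)

theorem gcl : word gw ∈ commutator Fi24 := word_mem (by decide)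

theorem conj_gl : word gw * gen .l * (word gw)⁻¹ = t 0 := isPt_l.conj_eq (isPt_t 0) rho_g0
theorem conj_g0 : word gw * t 0 * (word gw)⁻¹ = gen .l := (isPt_t 0).conj_eq isPt_l rho_g1
theorem conj_gi {i : Fin 23} (hi : i ≠ 0) : word gw * t i * (word gw)⁻¹ = t (fg i) :=
  (isPt_t i).conj_eq (isPt_t (fg i)) (rho_gi hi)

/-- **`M_24`.** -/
noncomputable def ext : Ext dat where
  g := ⟨word gw, gcl⟩
  h0 := by
    apply Subtype.ext
    change word gw * (gen .l * t 0) * (word gw)⁻¹ = gen .l * t 0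
    calc word gw * (gen .l * t 0) * (word gw)⁻¹ = (word gw * gen .l * (word gw)⁻¹) * (word gw * t 0 * (word gw)⁻¹) := by group
      _ = gen .l * t 0 := by rw [conj_gl, conj_g0, ← comm_l]
  hi := fun i hi => by
    apply Subtype.ext
    change word gw * (gen .l * t i) * (word gw)⁻¹ = gen .l * t 0 * (gen .l * t (fg i))
    calc word gw * (gen .l * t i) * (word gw)⁻¹ = (word gw * gen .l * (word gw)⁻¹) * (word gw * t i * (word gw)⁻¹) := by group
      _ = t 0 * t (fg i) := by rw [conj_gl, conj_gi hi]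
      _ = t 0 * (gen .l * gen .l) * t (fg i) := by rw [sq_l, mul_one]
      _ = t 0 * gen .l * (gen .l * t (fg i)) := by group
      _ = gen .l * t 0 * (gen .l * t (fg i)) := by rw [← comm_l 0]

/-- without fixed points `a` acts non-trivially -/
theorem exists_ne {X : Type*} [Group X] [IsSimpleGroup X] {A : Type*} [AddCommGroup A] [DistribMulAction X A] [Nontrivial A]
    (hfix : ∀ x : A, (∀ g : X, g • x = x) → x = 0) {a : X} (ha : a ≠ 1) : ∃ v : A, a • v ≠ v := by
  by_contra hcon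
  push Not at hcon
  let f : X →* Equiv.Perm A := MulAction.toPermHom X A
  rcases (inferInstance : f.ker.Normal).eq_bot_or_eq_top with h | h
  · have h1 : a ∈ f.ker := by
      rw [MonoidHom.mem_ker]
      exact Equiv.ext hcon
    rw [h, Subgroup.mem_bot] at h1
    exact ha h1
  · obtain ⟨x, hx⟩ := _root_.exists_ne (0 : A)
    apply hx
    refine hfix x fun g => ?_
    have h1 : g ∈ f.ker := h ▸ Subgroup.mem_top g
    rw [MonoidHom.mem_ker] at h1
    exact congrArg (fun q : Equiv.Perm A => q x) h1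

section

variable {A : Type u} [AddCommGroup A] [Finite A] [DistribMulAction Spor.Fi24' A] [Nontrivial A]

/-- **E2.** The class of products of two commuting transpositions, odd characteristic. -/
theorem E2 {p : ℕ} (hp : p.Prime) (hp2 : p ≠ 2) (hexp : ∀ x : A, p • x = 0)
    (hfix : ∀ x : A, (∀ g : Spor.Fi24', g • x = x) → x = 0) : p ^ 352 ≤ (fx A (a 0)).index := by
  have : IsSimpleGroup Spor.Fi24' := Cfsg.Agent.R08.FiTwentyFour.isFi24'.1
  have : Fact p.Prime := ⟨hp⟩
  exact ext.codim hp2 hexp (exists_ne hfix ne_a)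

/-- as an element of `Fi24` -/
theorem a_zero : ((a 0 : Spor.Fi24') : Fi24) = gen .l * gen .a := by
  change gen .l * t 0 = gen .l * gen .a
  rw [t_zero]

theorem E2' {p : ℕ} (hp : p.Prime) (hp2 : p ≠ 2) (hexp : ∀ x : A, p • x = 0)
    (hfix : ∀ x : A, (∀ g : Spor.Fi24', g • x = x) → x = 0) (h : gen .l * gen .a ∈ commutator Fi24) :
    p ^ 352 ≤ (fx A (⟨gen .l * gen .a, h⟩ : Spor.Fi24')).index := by
  have e : (⟨gen .l * gen .a, h⟩ : Spor.Fi24') = a 0 := Subtype.ext a_zero.symm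
  rw [e]
  exact E2 hp hp2 hexp hfix

end

end Cfsg.Agent.H26.S8.FiE2b
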